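import Cfsg.Agent.Lib.Co0Standard.Sylow
import Cfsg.Agent.Lib.Golay.Dodecad
import Cfsg.Agent.Lib.OutCert.Co1

/-!
# Involutions and automorphisms of `Co0`

* `involution_cases` : a non-central involution is conjugate to the sign change of the octad, of
  its complement, or of any dodecad
* `exists_inner` : in a perfect `Co0` every automorphism is inner
-/

set_option autoImplicit false
open scoped Pointwise symmDiff
open Cfsg
open Cfsg.Agent.Leech

namespace Cfsg.Agent.Co0Standard

theorem octA_octad : octA ∈ octads := Golay.octad0_mem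

theorem sgn_conj {σ : Equiv.Perm GolayPt} {c : Finset GolayPt} (hσ : σ ∈ M24) (hc : c ∈ Code) :
    mo σ ∅ * sgn c * (mo σ ∅)⁻¹ = sgn (σ • c) := by
  rw [sgn, mo_conj_perm hσ (one_mem _) hc, mul_one, mul_inv_cancel]
  rfl

theorem sgn_eq_negOne {c : Finset GolayPt} (hc : c ∈ Code) (h : sgn c = negOne) : c = Finset.univ := by
  rw [← sgn_univ] at h
  exact (mo_injective (one_mem _) (one_mem _) hc Golay.univ_mem h).2

theorem negOne_mul_sgn {c : Finset GolayPt} (hc : c ∈ Code) : negOne * sgn c = sgn cᶜ := by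
  rw [← sgn_univ, sgn_mul Golay.univ_mem hc, ← Finset.top_eq_univ, top_symmDiff]
  rfl

theorem compl_dodecad {D : Finset GolayPt} (hD : D ∈ dodecads) : Dᶜ ∈ dodecads := by
  refine ⟨Golay.compl_mem hD.1, ?_⟩
  rw [Finset.card_compl, hD.2, show Fintype.card GolayPt = 24 by decide +kernel]

/-- Any two dodecad sign changes are conjugate. -/
theorem conj_dodecad {D E : Finset GolayPt} (hD : D ∈ dodecads) (hE : E ∈ dodecads) :
    ∃ g : Co0, g * sgn D * g⁻¹ = sgn E := by
  obtain ⟨σ, hσ, h⟩ := Golay.exists_map_dodecad hD hE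
  exact ⟨mo σ ∅, by rw [sgn_conj hσ hD.1, h]⟩

/-- The sign change of a code word of weight sixteen is conjugate to that of the octad complement. -/
theorem conj_sixteen {c : Finset GolayPt} (hc : c ∈ Code) (h : c.card = 16) :
    ∃ g : Co0, g * sgn c * g⁻¹ = sgn octAᶜ := by
  have h8 : cᶜ ∈ octads := ⟨Golay.compl_mem hc, by
    rw [Finset.card_compl, h, show Fintype.card GolayPt = 24 by decide +kernel]⟩
  obtain ⟨σ, hσ, hσc⟩ := Golay.exists_map_octad h8 octA_octad
  refine ⟨mo σ ∅, ?_⟩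
  rw [sgn_conj hσ hc]
  congr 1
  rw [← hσc]
  ext p
  simp [← Finset.inv_smul_mem_iff]

/-- The classes of non-central involutions. -/
theorem involution_cases {x : Co0} (hx : x * x = 1) (h1 : x ≠ 1) (h2 : x ≠ negOne) :
    (∃ g : Co0, g * x * g⁻¹ = sgn octA ∨ g * x * g⁻¹ = sgn octAᶜ) ∨
      ∀ D ∈ dodecads, ∃ g : Co0, g * x * g⁻¹ = sgn D := by
  haveI : Fact (Nat.Prime 2) := ⟨Nat.prime_two⟩
  have hpg : IsPGroup 2 (Subgroup.zpowers x) :=
    IsPGroup.of_card (n := 1) (by
      rw [Nat.card_zpowers, pow_one, orderOf_eq_prime (by rw [sq, hx]) h1])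
  obtain ⟨Q, hQ⟩ := hpg.exists_le_sylow
  obtain ⟨k, hk⟩ := MulAction.exists_smul_eq Co0 Q sylP
  have hmem : k * x * k⁻¹ ∈ sylGrp := by
    rw [← coe_sylP, ← hk]
    exact Subgroup.smul_mem_pointwise_smul x (MulAut.conj k) _ (hQ (Subgroup.mem_zpowers x))
  obtain ⟨σ, hσ, c, hc, he⟩ := hmem
  obtain ⟨g, e, hec, hg⟩ := exists_conj_sgn (sPerm_le hσ) hc (by
    rw [he, show k * x * k⁻¹ * (k * x * k⁻¹) = k * (x * x) * k⁻¹ by group, hx]; group)
  have hxe : g * k * x * (g * k)⁻¹ = sgn e := by rw [← hg, he]; group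
  have hne1 : e ≠ ∅ := by
    rintro rfl
    rw [sgn, mo_one_empty] at hxe
    exact h1 (conj_eq_one_iff.1 hxe)
  have hne2 : e ≠ Finset.univ := by
    rintro rfl
    rw [sgn_univ] at hxe
    apply h2
    rw [show x = (g * k)⁻¹ * negOne * (g * k) by rw [← hxe]; group, mul_assoc,
      ← Subgroup.mem_center_iff.1 negOne_mem_center, ← mul_assoc, inv_mul_cancel, one_mul]
  rcases Golay.card_mem_weights hec with h | h | h | h | h
  · exact absurd (Finset.card_eq_zero.1 h) hne1
  · obtain ⟨τ, hτ, hτe⟩ := Golay.exists_map_octad (⟨hec, h⟩ : e ∈ octads) octA_octad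
    refine Or.inl ⟨mo τ ∅ * (g * k), Or.inl ?_⟩
    rw [← hτe, ← sgn_conj hτ hec, ← hxe]
    group
  · refine Or.inr fun D hD => ?_
    obtain ⟨t, ht⟩ := conj_dodecad (⟨hec, h⟩ : e ∈ dodecads) hD
    exact ⟨t * (g * k), by rw [← ht, ← hxe]; group⟩
  · obtain ⟨t, ht⟩ := conj_sixteen hec h
    exact Or.inl ⟨t * (g * k), Or.inr (by rw [← ht, ← hxe]; group)⟩
  · exact absurd ((Finset.card_eq_iff_eq_univ e).1 (h.trans (by decide +kernel))) hne2

theorem octA_stable : ((List.range 10).all fun j =>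
    Golay.imgMask (gen j) Golay.octad0 == Golay.octad0) = true := by
  decide +kernel

theorem sgn_octA_comm {y : Co0} (hy : y ∈ sylGrp) : y * sgn octA = sgn octA * y := by
  obtain ⟨σ, hσ, c, hc, rfl⟩ := hy
  have hfix : σ • octA = octA := by
    have hle : sPerm ≤ MulAction.stabilizer (Equiv.Perm GolayPt) octA := by
      rw [sPerm, sSub, Subgroup.closure_le]
      rintro _ ⟨j, hj, rfl⟩
      have hst := steps_ok
      simp only [Bool.and_eq_true, List.all_eq_true, List.mem_range] at hst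
      have hh := hst.1.1 j hj
      simp only [stepOK, Bool.and_eq_true] at hh
      have h := beq_iff_eq.1 (List.all_eq_true.1 octA_stable j (List.mem_range.2 hj))
      show Golay.toPerm (gen j) • octA = octA
      rw [octA, ← Golay.pts_imgMask (Golay.validPerm_of_isAut hh.1.1.1.1), h]
    exact hle hσ
  rw [sgn, mo_mul (sPerm_le hσ) (one_mem _) hc octA_mem,
    mo_mul (one_mem _) (sPerm_le hσ) octA_mem hc, hfix, mul_one, one_mul, one_smul, symmDiff_comm]

theorem exists_inner_of {H : Type} [Group H] (hperf : commutator H = ⊤)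
    (hout : Nat.card (Cfsg.Out (H ⧸ Subgroup.center H)) = 1) (α : MulAut H) :
    ∃ a : H, ∀ x, α x = a * x * a⁻¹ := by
  let Z := Subgroup.center H
  have hZ : Z.map α.toMonoidHom = Z :=
    Subgroup.characteristic_iff_map_eq.1 inferInstance α
  let β : MulAut (H ⧸ Z) := QuotientGroup.congr Z Z α hZ
  rw [Nat.card_eq_one_iff_unique] at hout
  haveI := hout.1
  have hb : (QuotientGroup.mk β : Cfsg.Out (H ⧸ Z)) = 1 := Subsingleton.elim _ _
  obtain ⟨q, hq⟩ := (QuotientGroup.eq_one_iff β).1 hb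
  obtain ⟨a, rfl⟩ := QuotientGroup.mk_surjective q
  have hd : ∀ x, (a * x * a⁻¹)⁻¹ * α x ∈ Z := by
    intro x
    refine QuotientGroup.eq.1 ?_
    have h := DFunLike.congr_fun hq (QuotientGroup.mk x : H ⧸ Z)
    rw [MulAut.conj_apply] at h
    exact h
  let d : H →* Z :=
    { toFun := fun x => ⟨_, hd x⟩
      map_one' := Subtype.ext (by simp)
      map_mul' := fun x y => Subtype.ext (by
        show (a * (x * y) * a⁻¹)⁻¹ * α (x * y) = (a * x * a⁻¹)⁻¹ * α x * ((a * y * a⁻¹)⁻¹ * α y)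
        rw [map_mul]
        calc (a * (x * y) * a⁻¹)⁻¹ * (α x * α y)
            = (a * y * a⁻¹)⁻¹ * ((a * x * a⁻¹)⁻¹ * α x) * α y := by group
          _ = (a * x * a⁻¹)⁻¹ * α x * (a * y * a⁻¹)⁻¹ * α y := by
              rw [Subgroup.mem_center_iff.1 (hd x) ((a * y * a⁻¹)⁻¹)]
          _ = _ := by group) }
  refine ⟨a, fun x => ?_⟩
  have hcom : ∀ u v : Z, u * v = v * u := fun u v =>
    Subtype.ext (Subgroup.mem_center_iff.1 v.2 (u : H))
  have hx : x ∈ d.ker := by
    have hle : commutator H ≤ d.ker := by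
      rw [commutator_def, Subgroup.commutator_le]
      intro p _ q _
      rw [MonoidHom.mem_ker, map_commutatorElement, commutatorElement_def, hcom (d p) (d q),
        mul_inv_cancel_right, mul_inv_cancel]
    exact hle (hperf ▸ Subgroup.mem_top x)
  have h1 : (a * x * a⁻¹)⁻¹ * α x = 1 := congrArg Subtype.val (MonoidHom.mem_ker.1 hx)
  exact (inv_mul_eq_one.1 h1).symm

/-- If `Co0` is perfect, every automorphism is inner. -/
theorem exists_inner (hperf : commutator Co0 = ⊤) (α : MulAut Co0) :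
    ∃ a : Co0, ∀ x, α x = a * x * a⁻¹ :=
  exists_inner_of hperf OutCert.card_out_co1 α

end Cfsg.Agent.Co0Standard
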