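import Cfsg.Agent.Lib.Co0Standard.Data
import Cfsg.Agent.Lib.Co2Centralizer.Kernel
import Cfsg.Agent.Lib.GolayInvol.Basic

/-!
# Monomial involutions of `Co0` are conjugate to sign changes

* `mo`, `sgn` : monomial elements and sign changes as total functions
* `exists_conj_sgn` : a monomial element squaring to `1` is conjugate to a sign change
-/

set_option autoImplicit false
open scoped Pointwise symmDiff
open Cfsg
open Cfsg.Agent.Leech
open Cfsg.Agent.Co2Centralizer (xiEl vec_xiEl xiFun xiTwo xiMat mono_mul mono_congr mono_one_empty)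

namespace Cfsg.Agent.Co0Standard

/-- The code words as sets. -/
abbrev Code : Set (Finset GolayPt) := supports (golayCode : Set (GolayPt → ZMod 2))

open Classical in
/-- A monomial element, `1` outside the monomial group. -/
noncomputable def mo (σ : Equiv.Perm GolayPt) (c : Finset GolayPt) : Co0 :=
  if h : σ ∈ M24 ∧ c ∈ Code then mono σ h.1 c h.2 else 1

/-- A sign change, `1` outside the code. -/
noncomputable def sgn (c : Finset GolayPt) : Co0 := mo 1 c

theorem mo_eq {σ : Equiv.Perm GolayPt} {c : Finset GolayPt} (hσ : σ ∈ M24) (hc : c ∈ Code) :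
    mo σ c = mono σ hσ c hc := dif_pos ⟨hσ, hc⟩

theorem mo_mul {σ τ : Equiv.Perm GolayPt} {c e : Finset GolayPt} (hσ : σ ∈ M24) (hτ : τ ∈ M24)
    (hc : c ∈ Code) (he : e ∈ Code) : mo σ c * mo τ e = mo (σ * τ) (c ∆ (σ • e)) := by
  rw [mo_eq hσ hc, mo_eq hτ he, mo_eq (mul_mem hσ hτ)
    (Golay.symmDiff_mem hc (Golay.smul_mem_supports hσ he)), mono_mul]

theorem mo_one_empty : mo 1 ∅ = 1 := by rw [mo_eq (one_mem _) Golay.empty_mem, mono_one_empty]

theorem mo_injective {σ τ : Equiv.Perm GolayPt} {c e : Finset GolayPt} (hσ : σ ∈ M24) (hτ : τ ∈ M24)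
    (hc : c ∈ Code) (he : e ∈ Code) (h : mo σ c = mo τ e) : σ = τ ∧ c = e :=
  mono_injective (by rwa [mo_eq hσ hc, mo_eq hτ he] at h)

theorem vec_mo_eight {σ : Equiv.Perm GolayPt} {c : Finset GolayPt} (hσ : σ ∈ M24) (hc : c ∈ Code)
    (j : GolayPt) :
    mo σ c • eightVec j = if σ j ∈ c then -eightVec (σ j) else eightVec (σ j) := by
  refine Subtype.ext ?_
  rw [mo_eq hσ hc, vec_mono, coe_eightVec, signedPerm_single]
  split_ifs with h
  · exact (Pi.single_neg _ _)
  · rfl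

theorem sgn_mul {c e : Finset GolayPt} (hc : c ∈ Code) (he : e ∈ Code) :
    sgn c * sgn e = sgn (c ∆ e) := by
  rw [sgn, sgn, sgn, mo_mul (one_mem _) (one_mem _) hc he, one_mul, one_smul]

theorem mo_conj_perm {k σ : Equiv.Perm GolayPt} {c : Finset GolayPt} (hk : k ∈ M24) (hσ : σ ∈ M24)
    (hc : c ∈ Code) : mo k ∅ * mo σ c * (mo k ∅)⁻¹ = mo (k * σ * k⁻¹) (k • c) := by
  have he := Golay.empty_mem
  rw [mul_inv_eq_iff_eq_mul, mo_mul hk hσ he hc,
    mo_mul (mul_mem (mul_mem hk hσ) (inv_mem hk)) hk (Golay.smul_mem_supports hk hc) he,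
    Finset.smul_finset_empty, inv_mul_cancel_right, ← Finset.bot_eq_empty,
    bot_symmDiff, symmDiff_bot]

theorem mo_conj_sgn {σ : Equiv.Perm GolayPt} {c d : Finset GolayPt} (hσ : σ ∈ M24) (hc : c ∈ Code)
    (hd : d ∈ Code) : sgn d * mo σ c * (sgn d)⁻¹ = mo σ ((c ∆ d) ∆ (σ • d)) := by
  rw [sgn, mul_inv_eq_iff_eq_mul, mo_mul (one_mem _) hσ hd hc,
    mo_mul hσ (one_mem _) (Golay.symmDiff_mem (Golay.symmDiff_mem hc hd)
      (Golay.smul_mem_supports hσ hd)) hd, one_mul, mul_one, one_smul, symmDiff_symmDiff_cancel_right,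
    symmDiff_comm]

theorem code_enc (x : ℕ) : Golay.pts (Golay.enc x) ∈ Code :=
  ⟨_, Golay.word_enc_mem x, Golay.support₂_word _⟩

theorem code_pts {m : ℕ} (h : Golay.isCode m = true) : Golay.pts m ∈ Code :=
  (Golay.pts_mem_supports_iff (Golay.lt_of_isCode h)).2 h

/-! ### The conjugators -/

/-- The sign of a coordinate. -/
def eps (m i : ℕ) : ℤ := if m.testBit i then -1 else 1

/-- A row of the list is a valid conjugator of the involution coded by `r`. -/
def elOK (r : ℕ) (e : ℕ × ℕ × ℕ × ℕ) : Bool :=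
  Golay.isAut e.2.1 && Golay.isCode e.1 && Golay.isCode e.2.2.1 && Golay.isCode e.2.2.2 &&
    decide (∀ j i : GolayPt,
      eps e.1 (Golay.fn r (Golay.idx j)) * eps e.2.2.1 (Golay.fn e.2.1 (Golay.fn r (Golay.idx j))) *
          xiMat i (Golay.pt (Golay.fn e.2.1 (Golay.fn r (Golay.idx j)))) =
        eps e.2.2.2 (Golay.idx i) * eps e.2.2.1 (Golay.fn e.2.1 (Golay.idx j)) *
          xiMat i (Golay.pt (Golay.fn e.2.1 (Golay.idx j))))

theorem els_ok : (fixEls.all (elOK GolayInvol.invRepFix) &&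
    freeEls.all (elOK GolayInvol.invRepFree)) = true := by
  decide +kernel

theorem vec_xi_eight (p i : GolayPt) :
    ((xiEl • eightVec p : leechLattice) : GolayPt → ℤ) i = 4 * xiMat i p := by
  rw [vec_xiEl, coe_eightVec, xiFun, xiTwo, Finset.sum_eq_single p (fun q _ hq => by
    rw [Pi.single_eq_of_ne hq, mul_zero]) (by simp), Pi.single_eq_same]
  omega

theorem eps_smul (m : ℕ) (p : GolayPt) (v : leechLattice) (i : GolayPt) :
    ((if p ∈ Golay.pts m then -v else v : leechLattice) : GolayPt → ℤ) i =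
      eps m (Golay.idx p) * (v : GolayPt → ℤ) i := by
  simp only [Golay.mem_pts, eps]
  split_ifs <;> simp

theorem sgn_smul {c : Finset GolayPt} (hc : c ∈ Code) (v : leechLattice) (i : GolayPt) :
    ((sgn c • v : leechLattice) : GolayPt → ℤ) i =
      if i ∈ c then -(v : GolayPt → ℤ) i else (v : GolayPt → ℤ) i := by
  rw [sgn, mo_eq (one_mem _) hc]
  exact congrFun (vec_signEl c hc v) i

theorem conj_of_elOK {r : ℕ} (hr : Golay.isAut r = true) {e : ℕ × ℕ × ℕ × ℕ}
    (he : elOK r e = true) :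
    ∃ g : Co0, ∃ c ∈ Code, g * mo (Golay.toPerm r) (Golay.pts e.1) * g⁻¹ = sgn c := by
  obtain ⟨c0, d, d0, s⟩ := e
  simp only [elOK, Bool.and_eq_true, decide_eq_true_eq] at he
  obtain ⟨⟨⟨⟨hd, h0⟩, h1⟩, h2⟩, hall⟩ := he
  refine ⟨xiEl * mo (Golay.toPerm d) (Golay.pts d0), Golay.pts s, code_pts h2, ?_⟩
  rw [mul_inv_eq_iff_eq_mul]
  refine ext_frame fun j => Subtype.ext (funext fun i => ?_)
  have hdM := Golay.toPerm_mem_M24 hd
  have hrM := Golay.toPerm_mem_M24 hr
  have hiv := Golay.idx_toPerm (Golay.validPerm_of_isAut hd)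
  have hir := Golay.idx_toPerm (Golay.validPerm_of_isAut hr)
  have hpt : ∀ p, Golay.toPerm d p = Golay.pt (Golay.fn d (Golay.idx p)) := fun p => by
    rw [← hiv, Golay.pt_idx]
  rw [mul_smul, mul_smul, mul_smul, mul_smul, vec_mo_eight hrM (code_pts h0)]
  have key : ∀ p, ((xiEl • mo (Golay.toPerm d) (Golay.pts d0) • eightVec p : leechLattice) :
      GolayPt → ℤ) i = eps d0 (Golay.fn d (Golay.idx p)) *
        (4 * xiMat i (Golay.pt (Golay.fn d (Golay.idx p)))) := by
    intro p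
    rw [vec_mo_eight hdM (code_pts h1), apply_ite (xiEl • ·), smul_vneg, eps_smul, vec_xi_eight,
      hiv, hpt]
  have lhs : ((xiEl • mo (Golay.toPerm d) (Golay.pts d0) •
      (if Golay.toPerm r j ∈ Golay.pts c0 then -eightVec (Golay.toPerm r j)
        else eightVec (Golay.toPerm r j)) : leechLattice) : GolayPt → ℤ) i =
      eps c0 (Golay.fn r (Golay.idx j)) * (eps d0 (Golay.fn d (Golay.fn r (Golay.idx j))) *
        (4 * xiMat i (Golay.pt (Golay.fn d (Golay.fn r (Golay.idx j)))))) := by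
    rw [apply_ite (mo (Golay.toPerm d) (Golay.pts d0) • ·), apply_ite (xiEl • ·), smul_vneg,
      smul_vneg, eps_smul, key, hir]
  rw [lhs, sgn_smul (code_pts h2), key]
  have h := hall j i
  simp only [eps, Golay.mem_pts] at h ⊢
  split_ifs at h ⊢ <;> linarith

/-- Reduction of an invariant code word through the table. -/
def tabOK (r : ℕ) (els : List (ℕ × ℕ × ℕ × ℕ)) (tab : List (ℕ × ℕ × ℕ)) (m : ℕ) : Bool :=
  Golay.imgMask r m != m || tab.any fun t =>
    t.1 == m && decide (t.2.1 < els.length) && Golay.isCode t.2.2 &&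
      (els.getD t.2.1 (0, 0, 0, 0)).1 == (m ^^^ t.2.2) ^^^ Golay.imgMask r t.2.2

theorem tabs_ok : (Golay.allSpan (tabOK GolayInvol.invRepFix fixEls fixTab) Golay.rows 0 &&
    Golay.allSpan (tabOK GolayInvol.invRepFree freeEls freeTab) Golay.rows 0) = true := by
  decide +kernel

theorem conj_of_rep {r : ℕ} (hr : Golay.isAut r = true) {els : List (ℕ × ℕ × ℕ × ℕ)}
    {tab : List (ℕ × ℕ × ℕ)} (hels : els.all (elOK r) = true)
    (htab : Golay.allSpan (tabOK r els tab) Golay.rows 0 = true) {c : Finset GolayPt} (hc : c ∈ Code)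
    (hfix : Golay.toPerm r • c = c) :
    ∃ g : Co0, ∃ e ∈ Code, g * mo (Golay.toPerm r) c * g⁻¹ = sgn e := by
  have hv := Golay.validPerm_of_isAut hr
  have hm := Golay.supports_forall htab hc
  have himg : Golay.imgMask r (Golay.maskOf c) = Golay.maskOf c :=
    Golay.pts_injOn (Golay.imgMask_lt hv _) (Golay.maskOf_lt c)
      (by rw [Golay.pts_imgMask hv, Golay.pts_maskOf, hfix])
  simp only [tabOK, himg, bne_self_eq_false, Bool.false_or, List.any_eq_true, Bool.and_eq_true,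
    beq_iff_eq, decide_eq_true_eq] at hm
  obtain ⟨t, -, ⟨⟨ht, hk⟩, hd⟩, he⟩ := hm
  have hel : elOK r (els.getD t.2.1 (0, 0, 0, 0)) = true := by
    rw [List.getD_eq_getElem _ _ hk]
    exact List.all_eq_true.1 hels _ (List.getElem_mem hk)
  obtain ⟨g, e, hec, hg⟩ := conj_of_elOK hr hel
  refine ⟨g * sgn (Golay.pts t.2.2), e, hec, ?_⟩
  rw [← hg, he, Golay.pts_xor, Golay.pts_xor, Golay.pts_maskOf, Golay.pts_imgMask hv,
    mul_inv_rev, ← mo_conj_sgn (Golay.toPerm_mem_M24 hr) hc (code_pts hd)]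
  group

/-- A monomial element squaring to `1` is conjugate to a sign change. -/
theorem exists_conj_sgn {σ : Equiv.Perm GolayPt} {c : Finset GolayPt} (hσ : σ ∈ M24) (hc : c ∈ Code)
    (h : mo σ c * mo σ c = 1) : ∃ g : Co0, ∃ e ∈ Code, g * mo σ c * g⁻¹ = sgn e := by
  rw [mo_mul hσ hσ hc hc, ← mo_one_empty] at h
  obtain ⟨h1, h2⟩ := mo_injective (mul_mem hσ hσ) (one_mem _)
    (Golay.symmDiff_mem hc (Golay.smul_mem_supports hσ hc)) Golay.empty_mem h
  rw [← Finset.bot_eq_empty, symmDiff_eq_bot] at h2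
  by_cases h0 : σ = 1
  · subst h0
    exact ⟨1, c, hc, by rw [one_mul, inv_one, mul_one]; rfl⟩
  haveI : Fact (Nat.Prime 2) := ⟨Nat.prime_two⟩
  obtain ⟨k, hk, hk'⟩ := GolayInvol.involution_cases hσ (orderOf_eq_prime (by rw [sq, h1]) h0)
  have aux : ∀ ρ : Equiv.Perm GolayPt, ρ ∈ M24 → k * ρ * k⁻¹ = σ →
      (∀ c' ∈ Code, ρ • c' = c' → ∃ g : Co0, ∃ e ∈ Code, g * mo ρ c' * g⁻¹ = sgn e) →
      ∃ g : Co0, ∃ e ∈ Code, g * mo σ c * g⁻¹ = sgn e := by
    intro ρ hρ e H
    have hck : k⁻¹ • c ∈ Code := Golay.smul_mem_supports (inv_mem hk) hc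
    have hfix : ρ • (k⁻¹ • c) = k⁻¹ • c := by
      have hρe : ρ = k⁻¹ * σ * k := by rw [← e]; group
      rw [hρe, smul_smul, mul_inv_cancel_right, mul_smul, ← h2]
    obtain ⟨g, e', he', hg⟩ := H _ hck hfix
    refine ⟨g * (mo k ∅)⁻¹, e', he', ?_⟩
    have hx : mo σ c = mo k ∅ * mo ρ (k⁻¹ • c) * (mo k ∅)⁻¹ := by
      rw [mo_conj_perm hk hρ hck, e, smul_inv_smul]
    rw [← hg, hx]
    group
  have hok := els_ok
  have htk := tabs_ok
  rw [Bool.and_eq_true] at hok htk
  have hrep := Bool.and_eq_true_iff.1 GolayInvol.rep_aut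
  rcases hk' with e | e
  · exact aux _ GolayInvol.repFix_mem e fun c' hc' hf => conj_of_rep hrep.1 hok.1 htk.1 hc' hf
  · exact aux _ GolayInvol.repFree_mem e fun c' hc' hf => conj_of_rep hrep.2 hok.2 htk.2 hc' hf

end Cfsg.Agent.Co0Standard
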