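import Cfsg.Agent.Lib.Co0Standard.Classes
import Cfsg.Agent.Lib.StdElem.Basic
import Cfsg.Agent.Lib.ZStar.Apply
import Cfsg.Agent.Lib.ZStar.Unique

/-!
# Standard subgroups isomorphic to `Co0` with cyclic Sylow 2-subgroups of the centraliser

Main result: `normal_of_standard`: such a subgroup of a group with trivial core is normal.
-/

set_option autoImplicit false
open scoped Pointwise symmDiff
open Cfsg
open Cfsg.Agent.Leech

namespace Cfsg.Agent.Co0Standard

universe u

theorem negOne_sq : negOne * negOne = 1 :=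
  co0_ext fun v => by rw [mul_smul, negOne_smul, negOne_smul, one_smul, neg_neg]

/-- A second dodecad, meeting the first in four points. -/
def dodB : Finset GolayPt := Golay.pts 0xfccb8

theorem dodB_mem : dodB ∈ dodecads := Golay.pts_mem_dodecads (by decide +kernel)

theorem dod_check : (Golay.popcount (Golay.dodecad0 ^^^ 0xfccb8) == 16) = true := by decide +kernel

theorem sgn_ne {c d : Finset GolayPt} (hc : c ∈ Code) (hd : d ∈ Code) (h : c ≠ d) : sgn c ≠ sgn d :=
  fun e => h (mo_injective (one_mem _) (one_mem _) hc hd e).2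

theorem octAc_mem : octAᶜ ∈ Code := Golay.compl_mem octA_mem

theorem octA_ne_univ : octA ≠ Finset.univ := fun h => by
  have := octA_octad.2
  rw [h] at this
  revert this
  decide +kernel

theorem octAc_ne_univ : octAᶜ ≠ Finset.univ := fun h => by
  have h1 := octA_octad.2
  rw [Finset.compl_eq_univ_iff] at h
  rw [h, Finset.card_empty] at h1
  omega

/-- The embedding facts used in the proof. -/
structure Setting {G : Type u} [Group G] (A : Subgroup G) (ι : Co0 →* G) : Prop where
  inj : Function.Injective ι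
  range : ι.range = A

variable {G : Type u} [Group G] [Finite G] {A : Subgroup G} {ι : Co0 →* G}

theorem Setting.mem (hS : Setting A ι) (x : Co0) : ι x ∈ A := hS.range ▸ ⟨x, rfl⟩

theorem Setting.exists_eq (hS : Setting A ι) {a : G} (ha : a ∈ A) : ∃ x, ι x = a :=
  by rw [← hS.range] at ha; exact ha

theorem Setting.comm (hS : Setting A ι) {c : G} (hc : c ∈ Subgroup.centralizer (A : Set G))
    (x : Co0) : ι x * c = c * ι x := hc _ (hS.mem x)

theorem Setting.z_comm_A (_hS : Setting A ι) (x : Co0) : ι x * ι negOne = ι negOne * ι x := by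
  rw [← map_mul, ← map_mul, Subgroup.mem_center_iff.1 negOne_mem_center]

theorem Setting.z_mem (hS : Setting A ι) : ι negOne ∈ Subgroup.centralizer (A : Set G) := by
  intro a ha
  obtain ⟨x, rfl⟩ := hS.exists_eq ha
  exact hS.z_comm_A x

theorem Setting.z_order (hS : Setting A ι) : orderOf (ι negOne) = 2 := by
  haveI : Fact (Nat.Prime 2) := ⟨Nat.prime_two⟩
  rw [orderOf_injective ι hS.inj]
  exact orderOf_eq_prime (by rw [sq, negOne_sq]) negOne_ne_one

theorem Setting.perfect (hS : Setting A ι) (hq : Group.IsPerfect ↥A) : commutator Co0 = ⊤ := by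
  refine Subgroup.map_injective hS.inj ?_
  rw [commutator_def, Subgroup.map_commutator, ← MonoidHom.range_eq_map, hS.range]
  exact Subgroup.isPerfect_iff.1 hq

/-- The normaliser is the product of the subgroup and its centraliser. -/
theorem Setting.normalizer_eq (hS : Setting A ι) (hq : Group.IsPerfect ↥A) {n : G}
    (hn : n ∈ Subgroup.normalizer (A : Set G)) :
    ∃ a : Co0, ∃ c ∈ Subgroup.centralizer (A : Set G), n = ι a * c := by
  have hex : ∀ x : Co0, ∃ y : Co0, ι y = n * ι x * n⁻¹ := fun x =>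
    hS.exists_eq ((Subgroup.mem_normalizer_iff.1 hn _).1 (hS.mem x))
  choose f hf using hex
  let φ : Co0 →* Co0 :=
    { toFun := f
      map_one' := hS.inj (by rw [hf, map_one, mul_one, mul_inv_cancel])
      map_mul' := fun x y => hS.inj (by rw [map_mul, hf, hf, hf, map_mul]; group) }
  have hφ : Function.Injective φ := fun x y h => hS.inj (by
    have h' := congrArg ι h
    rw [show ι (φ x) = _ from hf x, show ι (φ y) = _ from hf y] at h'
    simpa using h')
  obtain ⟨a, ha⟩ := exists_inner (hS.perfect hq)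
    (MulEquiv.ofBijective φ (Finite.injective_iff_bijective.1 hφ))
  refine ⟨a, (ι a)⁻¹ * n, ?_, by group⟩
  intro y hy
  obtain ⟨x, rfl⟩ := hS.exists_eq hy
  have h : n * ι x * n⁻¹ = ι a * ι x * (ι a)⁻¹ := by
    rw [← hf, show f x = a * x * a⁻¹ from ha x, map_mul, map_mul, map_inv]
  calc ι x * ((ι a)⁻¹ * n) = (ι a)⁻¹ * (ι a * ι x * (ι a)⁻¹) * n := by group
    _ = (ι a)⁻¹ * (n * ι x * n⁻¹) * n := by rw [h]
    _ = (ι a)⁻¹ * n * ι x := by group

/-- A standard `Co0` with cyclic Sylow 2-subgroups of its centraliser is normal. -/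
theorem normal_of_standard (hO : Cfsg.oddCore G = ⊥) (hA : Cfsg.IsStandardSubgroup A)
    (hS : Setting A ι)
    (hR : ∀ R : Sylow 2 ↥(Subgroup.centralizer (A : Set G)),
      IsCyclic ↥(R : Subgroup ↥(Subgroup.centralizer (A : Set G)))) : A.Normal := by
  haveI : Fact (Nat.Prime 2) := ⟨Nat.prime_two⟩
  set C := Subgroup.centralizer (A : Set G) with hC
  set N := Subgroup.normalizer (A : Set G) with hN
  set z := ι negOne with hz
  have hz2 : z * z = 1 := by rw [hz, ← map_mul, negOne_sq, map_one]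
  have hzne : z ≠ 1 := fun h => negOne_ne_one (hS.inj (h.trans (map_one ι).symm))
  have hCN : C ≤ N := Subgroup.centralizer_le_normalizer _
  have hAN : A ≤ N := Subgroup.le_normalizer
  have hNz : ∀ n ∈ N, n * z = z * n := by
    intro n hn
    obtain ⟨a, c, hc, rfl⟩ := hS.normalizer_eq hA.1.1 hn
    rw [mul_assoc, show c * z = z * c from (hS.comm hc negOne).symm, ← mul_assoc,
      show ι a * z = z * ι a from hS.z_comm_A a, mul_assoc]
  have hzN : ∀ n, n * z = z * n → n ∈ N := fun n h =>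
    StdElem.centralizer_le_normalizer_of_standard hA hS.z_order hS.z_mem
      (Subgroup.mem_centralizer_singleton_iff.2 h)
  -- a Sylow subgroup of the centraliser
  let zC : C := ⟨z, hS.z_mem⟩
  have hzC2 : orderOf zC = 2 := by rw [Subgroup.orderOf_mk]; exact hS.z_order
  obtain ⟨R, hzR⟩ := (IsPGroup.of_card (n := 1)
    (by rw [Nat.card_zpowers, hzC2, pow_one]) : IsPGroup 2 (Subgroup.zpowers zC)).exists_le_sylow
  obtain ⟨⟨rC, hrR⟩, hgen⟩ := (hR R).exists_generator
  set r : G := (rC : G) with hr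
  obtain ⟨k', hk'⟩ := R.isPGroup'.exists_card_eq
  have hord : orderOf r = 2 ^ k' := by
    rw [hr, Subgroup.orderOf_coe, ← hk', ← orderOf_eq_card_of_forall_mem_zpowers hgen]
    exact Subgroup.orderOf_coe ⟨rC, hrR⟩
  have hk0 : k' ≠ 0 := by
    intro h
    rw [h, pow_zero] at hk'
    have hbot := Subgroup.eq_bot_of_card_eq (R : Subgroup C) hk'
    have hm := hzR (Subgroup.mem_zpowers zC)
    rw [hbot, Subgroup.mem_bot] at hm
    exact hzne (congrArg Subtype.val hm)
  obtain ⟨k, rfl⟩ : ∃ k, k' = k + 1 := Nat.exists_eq_succ_of_ne_zero hk0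
  set M := 2 ^ k with hM
  have hrM : r ^ M = z := by
    have h2 : orderOf (rC ^ M) = 2 := by
      rw [orderOf_pow' rC (pow_ne_zero k two_ne_zero), ← Subgroup.orderOf_coe rC, hord,
        Nat.gcd_eq_right (pow_dvd_pow 2 (Nat.le_succ k)), pow_succ,
        Nat.mul_div_cancel_left _ (pow_pos (by norm_num) k)]
    have hc : Commute zC (rC ^ M) :=
      Subtype.ext (hS.comm (rC ^ M : C).2 negOne)
    exact (congrArg Subtype.val (StdElem.eq_of_cyclic_sylow hR hzC2 h2 hc)).symm
  have hrc : ∀ x, ι x * r = r * ι x := fun x => hS.comm rC.2 x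
  have hrMi : ∀ i : ℕ, (r ^ i) ^ M = 1 ∨ (r ^ i) ^ M = z := by
    intro i
    rw [← pow_mul, mul_comm, pow_mul, hrM]
    rcases Nat.even_or_odd i with ⟨j, rfl⟩ | ⟨j, rfl⟩
    · exact Or.inl (by rw [← two_mul, pow_mul, pow_two, hz2, one_pow])
    · exact Or.inr (by rw [pow_succ, pow_mul, pow_two, hz2, one_pow, one_mul])
  -- a Sylow subgroup
  let f : Co0 × C →* G := ι.noncommCoprod C.subtype fun x c => hS.comm c.2 x
  have hfN : f.range = N := by
    refine le_antisymm ?_ fun n hn => ?_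
    · rintro _ ⟨⟨x, c⟩, rfl⟩
      exact mul_mem (hAN (hS.mem x)) (hCN c.2)
    · obtain ⟨a, c, hc, rfl⟩ := hS.normalizer_eq hA.1.1 hn
      exact ⟨⟨a, ⟨c, hc⟩⟩, rfl⟩
  set P := sylGrp.prod (R : Subgroup C) with hP
  set S := P.map f with hSdef
  have hmemS : ∀ s ∈ S, ∃ p ∈ sylGrp, ∃ i : ℕ, s = ι p * r ^ i := by
    rintro _ ⟨⟨p, c⟩, ⟨hp, hc⟩, rfl⟩
    have h1 := hgen ⟨c, hc⟩
    rw [← mem_powers_iff_mem_zpowers] at h1
    obtain ⟨i, hi⟩ := h1
    refine ⟨p, hp, i, ?_⟩
    show ι p * (c : G) = _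
    have h2 : rC ^ i = c := by simpa using congrArg Subtype.val hi
    rw [← h2]
    rfl
  have hpS : ∀ p ∈ sylGrp, ι p ∈ S := fun p hp =>
    ⟨⟨p, 1⟩, ⟨hp, one_mem _⟩, by show ι p * ((1 : C) : G) = _; simp⟩
  have hrS : r ∈ S := ⟨⟨1, rC⟩, ⟨one_mem _, hrR⟩, by show ι 1 * (rC : G) = r; rw [map_one, one_mul]⟩
  have hrcS : ∀ s ∈ S, s * r = r * s := by
    intro s hs
    obtain ⟨p, -, i, rfl⟩ := hmemS s hs
    rw [mul_assoc, (Commute.pow_self r i).eq, ← mul_assoc, hrc, mul_assoc]
  have hSN : S ≤ N := hfN ▸ Subgroup.map_le_range f P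
  have hPc : IsPGroup 2 P := IsPGroup.of_card (n := 22 + (k + 1)) (by
    rw [hP, Nat.card_congr (Subgroup.prodEquiv _ _).toEquiv, Nat.card_prod, natCard_sylGrp, hk',
      pow_add 2 22 (k + 1)])
  have hS2 : IsPGroup 2 S := hPc.map f
  -- elements normalising the Sylow subgroup fix `z`
  have hF : ∀ g ∈ Subgroup.normalizer (S : Set G), g * z * g⁻¹ = z := by
    intro g hg
    have hconj : ∀ s, s ∈ S → g * s * g⁻¹ ∈ S := fun s hs => (Subgroup.mem_normalizer_iff.1 hg s).1 hs
    rcases Nat.eq_zero_or_pos k with hk | hk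
    · -- the centraliser contributes only `z`
      have hrz : r = z := by rw [← hrM, hM, hk, pow_zero, pow_one]
      have hS' : ∀ s ∈ S, ∃ p ∈ sylGrp, ι p = s := by
        intro s hs
        obtain ⟨p, hp, i, rfl⟩ := hmemS s hs
        refine ⟨p * negOne ^ i, mul_mem hp (pow_mem negOne_mem_syl i), ?_⟩
        rw [map_mul, map_pow, hrz]
      choose f' hf'S hf' using fun p : sylGrp => hS' _ (hconj _ (hpS p.1 p.2))
      let φ : sylGrp →* sylGrp :=
        { toFun := fun p => ⟨f' p, hf'S p⟩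
          map_one' := Subtype.ext (hS.inj (by
            show ι (f' 1) = ι ((1 : sylGrp) : Co0)
            rw [hf']; simp))
          map_mul' := fun p q => Subtype.ext (hS.inj (by
            show ι (f' (p * q)) = ι (f' p * f' q)
            rw [map_mul, hf', hf', hf', Subgroup.coe_mul, map_mul]; group)) }
      have hφ : Function.Injective φ := fun p q h => Subtype.ext (hS.inj (by
        have h' := congrArg ι (congrArg Subtype.val h)
        change ι (f' p) = ι (f' q) at h'
        rw [hf', hf'] at h'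
        simpa using h'))
      have h1 := aut_fix (MulEquiv.ofBijective φ (Finite.injective_iff_bijective.1 hφ))
      have h2 := congrArg ι (congrArg Subtype.val h1)
      change ι (f' ⟨negOne, negOne_mem_syl⟩) = ι negOne at h2
      rwa [hf'] at h2
    · -- `z` is a power of a central element
      obtain ⟨p, hp, i, hpi⟩ := hmemS _ (hconj r hrS)
      have hcS : ∀ s ∈ S, s * (g * r * g⁻¹) = g * r * g⁻¹ * s := by
        intro s hs
        obtain ⟨t, ht, rfl⟩ : ∃ t ∈ S, g * t * g⁻¹ = s := ⟨g⁻¹ * s * g,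
          (Subgroup.mem_normalizer_iff''.1 hg s).1 hs, by group⟩
        calc g * t * g⁻¹ * (g * r * g⁻¹) = g * (t * r) * g⁻¹ := by group
          _ = g * (r * t) * g⁻¹ := by rw [hrcS t ht]
          _ = _ := by group
      have hpc : ∀ y ∈ sylGrp, y * p = p * y := by
        intro y hy
        refine hS.inj (mul_right_cancel (b := r ^ i) ?_)
        have h := hcS _ (hpS y hy)
        rw [hpi, ← mul_assoc, mul_assoc (ι p), ← (Commute.pow_right (hrc y) i).eq, ← mul_assoc] at h
        rw [map_mul, map_mul]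
        exact h
      have hp2 : p * p = 1 := by
        rcases center_syl hp hpc with rfl | rfl | rfl | rfl
        · exact one_mul 1
        · exact negOne_sq
        · rw [sgn_mul octA_mem octA_mem, symmDiff_self]; exact mo_one_empty
        · rw [sgn_mul octAc_mem octAc_mem, symmDiff_self]; exact mo_one_empty
      have hgz : g * z * g⁻¹ = (r ^ i) ^ M := by
        rw [← hrM, ← conj_pow, hpi, (Commute.pow_right (hrc p) i).mul_pow]
        obtain ⟨j, hj⟩ : 2 ∣ M := dvd_pow_self 2 (by omega)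
        rw [show ι p ^ M = 1 by rw [← map_pow, hj, pow_mul, pow_two, hp2, one_pow, map_one], one_mul]
      rcases hrMi i with h | h
      · exact absurd (conj_eq_one_iff.1 (hgz.trans h)) hzne
      · exact hgz.trans h
  -- it is a Sylow subgroup of the group
  have hodd : ¬ 2 ∣ S.index := by
    have hPodd : ¬ 2 ∣ P.index := by
      rw [hP, Subgroup.index_prod]
      exact fun h => (Nat.prime_two.dvd_mul.1 h).elim (coe_sylP ▸ sylP.not_dvd_index) R.not_dvd_index
    have hrel : ¬ 2 ∣ S.relIndex N := by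
      intro h
      refine hPodd (h.trans ?_)
      rw [← hfN, hSdef, MonoidHom.range_eq_map, Subgroup.relIndex_map_map, top_sup_eq,
        Subgroup.relIndex_top_right]
      exact Subgroup.index_dvd_of_le le_sup_left
    intro h2
    obtain ⟨n, hn⟩ := hS2.exists_card_eq
    have hdvd : 2 ^ (n + 1) ∣ Nat.card G := by
      rw [← Subgroup.card_mul_index S, hn, pow_succ]
      exact Nat.mul_dvd_mul_left _ h2
    have h3 := Sylow.prime_dvd_card_quotient_normalizer hdvd hn
    refine hrel (h3.trans ?_)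
    have hMN : Subgroup.normalizer (S : Set G) ≤ N := fun g hg =>
      hzN g (mul_inv_eq_iff_eq_mul.1 (hF g hg))
    exact ⟨_, (Subgroup.relIndex_mul_relIndex S _ N Subgroup.le_normalizer hMN).symm⟩
  let T : Sylow 2 G := hS2.toSylow hodd
  have hT : (T : Subgroup G) = S := rfl
  -- central sign changes are not conjugate to `z`
  have hnc : ∀ c ∈ Code, (∀ y ∈ sylGrp, y * sgn c = sgn c * y) → c ≠ Finset.univ →
      ∀ g : G, g⁻¹ * z * g ≠ ι (sgn c) := by
    intro c hc hcc hne g hg
    have hcent : ∀ x, (∀ y ∈ sylGrp, y * x = x * y) → ι x ∈ Subgroup.centralizer (T : Set G) := by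
      intro x hx s hs
      obtain ⟨p, hp, i, rfl⟩ := hmemS s (hT ▸ hs)
      rw [mul_assoc, ← (Commute.pow_right (hrc x) i).eq, ← mul_assoc, ← map_mul, hx p hp, map_mul,
        mul_assoc]
    obtain ⟨n, hn, hne'⟩ := T.conj_eq_normalizer_conj_of_mem_centralizer z g
      (hcent negOne fun y _ => Subgroup.mem_center_iff.1 negOne_mem_center y)
      (hg ▸ hcent _ hcc)
    have h := hF n⁻¹ (inv_mem (hT ▸ hn))
    rw [inv_inv] at h
    rw [hg, h] at hne'
    exact hne (sgn_eq_negOne hc (hS.inj hne'))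
  have hcA : ∀ y ∈ sylGrp, y * sgn octA = sgn octA * y := fun y hy => sgn_octA_comm hy
  have hcAc : ∀ y ∈ sylGrp, y * sgn octAᶜ = sgn octAᶜ * y := fun y hy => by
    rw [← negOne_mul_sgn octA_mem, ← mul_assoc, Subgroup.mem_center_iff.1 negOne_mem_center,
      mul_assoc, hcA y hy, mul_assoc]
  -- conjugates commuting with `z` lie in `A`
  have hmemA : ∀ g : G, Commute z (g * z * g⁻¹) → g⁻¹ * z * g ∈ A := by
    intro g hg
    have hconjS : ∀ x ∈ N, IsPGroup 2 (Subgroup.zpowers x) → ∃ n ∈ N, n * x * n⁻¹ ∈ S := by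
      intro x hx hp
      obtain ⟨Q, hQ⟩ := (hp.comap_subtype : IsPGroup 2 ((Subgroup.zpowers x).comap N.subtype)).exists_le_sylow
      obtain ⟨n, hn⟩ := MulAction.exists_smul_eq N Q (T.subtype (hT ▸ hSN))
      refine ⟨n, n.2, ?_⟩
      have hm : MulAut.conj n • (⟨x, hx⟩ : N) ∈ MulAut.conj n • (Q : Subgroup N) :=
        Subgroup.smul_mem_pointwise_smul _ _ _ (hQ (Subgroup.mem_zpowers x))
      have e : MulAut.conj n • (Q : Subgroup N) = ((n • Q : Sylow 2 N) : Subgroup N) := rfl
      rw [e, hn] at hm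
      exact hT ▸ hm
    have hpg : IsPGroup 2 (Subgroup.zpowers (g * z * g⁻¹)) := IsPGroup.of_card (n := 1) (by
      rw [Nat.card_zpowers, show g * z * g⁻¹ = MulAut.conj g z from rfl,
        MulEquiv.orderOf_eq (MulAut.conj g), hS.z_order, pow_one])
    obtain ⟨n, hn, hns⟩ := hconjS _ (hzN _ hg.eq.symm) hpg
    set h := n * g with hh
    have hx : h * z * h⁻¹ ∈ S := by rw [hh]; convert hns using 1; group
    have hz' : h⁻¹ * z * h = g⁻¹ * z * g := by
      rw [hh, mul_inv_rev, ← mul_assoc, mul_assoc g⁻¹ n⁻¹, mul_assoc g⁻¹,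
        show n⁻¹ * z * n = z by rw [mul_assoc, ← hNz n hn, inv_mul_cancel_left]]
    rw [← hz']
    set r' := h⁻¹ * r * h with hr'
    have hr'N : r' ∈ N := hzN _ (by
      have := hrcS _ hx
      rw [hr']
      calc h⁻¹ * r * h * z = h⁻¹ * (r * (h * z * h⁻¹)) * h := by group
        _ = h⁻¹ * (h * z * h⁻¹ * r) * h := by rw [this]
        _ = z * (h⁻¹ * r * h) := by group)
    obtain ⟨m, hm, hms⟩ := hconjS r' hr'N (IsPGroup.of_card (n := k + 1) (by
      rw [Nat.card_zpowers, hr', show h⁻¹ * r * h = MulAut.conj h⁻¹ r by simp,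
        MulEquiv.orderOf_eq (MulAut.conj h⁻¹), hord]))
    obtain ⟨p, -, i, hpi⟩ := hmemS _ hms
    have hpow : m * (h⁻¹ * z * h) * m⁻¹ = ι p ^ M * (r ^ i) ^ M := by
      have hpow' : r' ^ M = h⁻¹ * z * h := by
        rw [hr', ← hrM]
        have := (map_pow (MulAut.conj h⁻¹) r M).symm
        simpa only [MulAut.conj_apply, inv_inv] using this
      rw [← hpow', ← conj_pow, hpi, (Commute.pow_right (hrc p) i).mul_pow]
    refine (Subgroup.mem_normalizer_iff.1 hm _).2 ?_
    rw [hpow, ← map_pow]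
    rcases hrMi i with e | e <;> rw [e]
    · exact mul_mem (hS.mem _) (one_mem A)
    · exact mul_mem (hS.mem _) (hS.mem _)
  -- classes of conjugates commuting with `z`
  have hclass : ∀ g : G, Commute z (g * z * g⁻¹) → g * z * g⁻¹ ≠ z → ∃ y : Co0, ι y = g * z * g⁻¹ ∧
      ∀ D ∈ dodecads, ∃ t : Co0, t * y * t⁻¹ = sgn D := by
    intro g hg hne
    have hg' : Commute z (g⁻¹ * z * g⁻¹⁻¹) := by
      rw [inv_inv]
      show z * (g⁻¹ * z * g) = g⁻¹ * z * g * z
      calc z * (g⁻¹ * z * g) = g⁻¹ * (g * z * g⁻¹ * z) * g := by group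
        _ = g⁻¹ * (z * (g * z * g⁻¹)) * g := by rw [hg.eq]
        _ = g⁻¹ * z * g * z := by group
    have hA' := hmemA g⁻¹ hg'
    rw [inv_inv] at hA'
    obtain ⟨y, hy⟩ := hS.exists_eq hA'
    have hy2 : y * y = 1 := hS.inj (by
      rw [map_mul, map_one, hy, show g * z * g⁻¹ * (g * z * g⁻¹) = g * (z * z) * g⁻¹ by group, hz2]
      group)
    have hy1 : y ≠ 1 := by
      rintro rfl
      rw [map_one, eq_comm, conj_eq_one_iff] at hy
      exact hzne hy
    have hyz : y ≠ negOne := by rintro rfl; exact hne hy.symm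
    refine ⟨y, hy, ?_⟩
    rcases involution_cases hy2 hy1 hyz with ⟨t, ht | ht⟩ | h
    · exfalso
      refine hnc octA octA_mem hcA octA_ne_univ (ι t * g)⁻¹ ?_
      rw [inv_inv, ← ht, map_mul, map_mul, map_inv, hy]
      group
    · exfalso
      refine hnc octAᶜ octAc_mem hcAc octAc_ne_univ (ι t * g)⁻¹ ?_
      rw [inv_inv, ← ht, map_mul, map_mul, map_inv, hy]
      group
    · exact h
  -- `z` is isolated
  have hiso : IsIsolatedInvolution z := by
    refine ⟨hS.z_order, fun g hg => ?_⟩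
    by_contra hne
    obtain ⟨y, hy, hyD⟩ := hclass g hg hne
    have hin : ∀ D ∈ dodecads, ∃ g1 : G, g1 * z * g1⁻¹ = ι (sgn D) := by
      intro D hD
      obtain ⟨t, ht⟩ := hyD D hD
      exact ⟨ι t * g, by rw [← ht, map_mul, map_mul, map_inv, hy]; group⟩
    obtain ⟨g1, hg1⟩ := hin _ Golay.dodecad0_mem
    obtain ⟨g2, hg2⟩ := hin _ dodB_mem
    set v := ι (sgn (Golay.pts Golay.dodecad0)) with hv
    set y' := ι (sgn dodB) with hy'
    have hvy : y' * v = v * y' := by
      rw [hv, hy', ← map_mul, ← map_mul, sgn_mul dodB_mem.1 Golay.dodecad0_mem.1,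
        sgn_mul Golay.dodecad0_mem.1 dodB_mem.1, symmDiff_comm]
    set g3 := g1⁻¹ * g2 with hg3
    have hw : g3 * z * g3⁻¹ = g1⁻¹ * y' * g1 := by rw [hg3, ← hg2]; group
    have hwc : Commute z (g3 * z * g3⁻¹) := by
      rw [hw]
      show z * (g1⁻¹ * y' * g1) = g1⁻¹ * y' * g1 * z
      calc z * (g1⁻¹ * y' * g1) = g1⁻¹ * ((g1 * z * g1⁻¹) * y') * g1 := by group
        _ = g1⁻¹ * (y' * (g1 * z * g1⁻¹)) * g1 := by rw [hg1, hvy]
        _ = g1⁻¹ * y' * g1 * z := by group
    have hwne : g3 * z * g3⁻¹ ≠ z := by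
      rw [hw]
      intro h
      have h2 : y' = v := by rw [← hg1, ← h]; group
      have h3 : dodB = Golay.pts Golay.dodecad0 := by
        by_contra h4
        exact sgn_ne dodB_mem.1 Golay.dodecad0_mem.1 h4 (hS.inj h2)
      revert h3
      decide +kernel
    obtain ⟨y3, hy3, hy3D⟩ := hclass g3 hwc hwne
    obtain ⟨t, ht⟩ := hy3D _ Golay.dodecad0_mem
    obtain ⟨g4, hg4⟩ := hin _ (compl_dodecad Golay.dodecad0_mem)
    -- `w z` is conjugate to `z`
    have hwz : (ι t)⁻¹ * g4 * z * ((ι t)⁻¹ * g4)⁻¹ = z * (g3 * z * g3⁻¹) := by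
      rw [show (ι t)⁻¹ * g4 * z * ((ι t)⁻¹ * g4)⁻¹ = (ι t)⁻¹ * (g4 * z * g4⁻¹) * ι t by group,
        hg4, ← negOne_mul_sgn Golay.dodecad0_mem.1, ← ht, ← hy3, hz, ← map_inv, ← map_mul,
        ← map_mul, ← map_mul]
      congr 1
      rw [← mul_assoc t⁻¹ negOne, Subgroup.mem_center_iff.1 negOne_mem_center t⁻¹]
      group
    -- hence so is the sign change of a word of weight sixteen
    set c16 := Golay.pts Golay.dodecad0 ∆ dodB with hc16
    have hc : c16 ∈ Code := Golay.symmDiff_mem Golay.dodecad0_mem.1 dodB_mem.1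
    have hcard : c16.card = 16 := by
      rw [hc16, dodB, ← Golay.pts_xor, Golay.card_pts]
      exact beq_iff_eq.1 dod_check
    obtain ⟨t2, ht2⟩ := conj_sixteen hc hcard
    refine hnc octAᶜ octAc_mem hcAc octAc_ne_univ (ι t2 * g1 * ((ι t)⁻¹ * g4))⁻¹ ?_
    rw [inv_inv, ← ht2, map_mul, map_mul, map_inv, hc16,
      ← sgn_mul Golay.dodecad0_mem.1 dodB_mem.1, map_mul, ← hv, ← hy', ← hg1]
    rw [show ι t2 * g1 * ((ι t)⁻¹ * g4) * z * (ι t2 * g1 * ((ι t)⁻¹ * g4))⁻¹ =
      ι t2 * (g1 * ((ι t)⁻¹ * g4 * z * ((ι t)⁻¹ * g4)⁻¹) * g1⁻¹) * (ι t2)⁻¹ by group, hwz, hw]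
    group
  -- conclusion
  have hcen := ZStar.isolated_mem_center ZStar.uniqueInvolution hiso hO
  rw [← Subgroup.normalizer_eq_top_iff, eq_top_iff]
  exact fun g _ => hzN g (Subgroup.mem_center_iff.1 hcen g)

end Cfsg.Agent.Co0Standard
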