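import Cfsg.Agent.Lib.Co0Standard.Conj

/-!
# A Sylow 2-subgroup of `Co0` and its automorphisms

* `sylGrp` : monomial elements over `sPerm`, of order `2 ^ 22`;  `sylP` : the Sylow subgroup
* `center_syl` : its centre consists of `1`, `negOne`, `sgn octA`, `sgn octAᶜ`
* `aut_fix` : every automorphism of it fixes `negOne`
-/

set_option autoImplicit false
open scoped Pointwise symmDiff
open Cfsg
open Cfsg.Agent.Leech

namespace Cfsg.Agent.Co0Standard

instance : Finite Co0 := Nat.finite_of_card_ne_zero (by rw [card_co0]; norm_num)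

/-- The code of the identity. -/
def idC : ℕ := (List.range 24).foldr (fun i acc => (i <<< (5 * i)) ||| acc) 0

/-- Composition of coded permutations. -/
def compC (d e : ℕ) : ℕ :=
  (List.range 24).foldr (fun i acc => (Golay.fn d (Golay.fn e i) <<< (5 * i)) ||| acc) 0

/-- A member of the polycyclic sequence. -/
def gen (k : ℕ) : ℕ := sGens.getD k 0

/-- The elements of the groups of the sequence. -/
def elts : ℕ → List ℕ
  | 0 => [idC]
  | k + 1 => elts k ++ (elts k).map (compC · (gen k))

/-- Pointwise equality of composites. -/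
def eqC (a b c d : ℕ) : Bool :=
  (List.range 24).all fun i => Golay.fn a (Golay.fn b i) == Golay.fn c (Golay.fn d i)

/-- The relations of one step. -/
def stepOK (k : ℕ) : Bool :=
  let L := elts k
  let g := gen k
  Golay.isAut g &&
    L.all (fun d => Golay.validPerm d && Golay.validPerm (compC d g) &&
      eqC (compC d g) idC d g &&
      (List.range 24).any fun i => Golay.fn d i != Golay.fn g i) &&
    decide (sqIdx.getD k 0 < L.length) && eqC g g (L.getD (sqIdx.getD k 0) 0) idC &&
    (List.range k).all fun j => decide ((cjIdx.getD k []).getD j 0 < L.length) &&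
      eqC g (gen j) (L.getD ((cjIdx.getD k []).getD j 0) 0) g

theorem steps_ok : ((List.range 10).all stepOK && Golay.validPerm idC &&
    (List.range 24).all fun i => Golay.fn idC i == i) = true := by
  decide +kernel

theorem valid_idC : Golay.validPerm idC = true := by
  have h := steps_ok; simp only [Bool.and_eq_true] at h; exact h.1.2

theorem toPerm_idC : Golay.toPerm idC = 1 := by
  refine Equiv.ext fun p => Golay.idx_injective ?_
  have h := steps_ok
  simp only [Bool.and_eq_true, List.all_eq_true, List.mem_range, beq_iff_eq] at h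
  rw [Golay.idx_toPerm valid_idC, h.2 _ (Golay.idx_lt p)]; rfl

theorem mul_of_eqC {a b c d : ℕ} (ha : Golay.validPerm a = true) (hb : Golay.validPerm b = true)
    (hc : Golay.validPerm c = true) (hd : Golay.validPerm d = true) (h : eqC a b c d = true) :
    Golay.toPerm a * Golay.toPerm b = Golay.toPerm c * Golay.toPerm d := by
  refine Equiv.ext fun p => Golay.idx_injective ?_
  rw [Equiv.Perm.mul_apply, Equiv.Perm.mul_apply, Golay.idx_toPerm ha, Golay.idx_toPerm hb,
    Golay.idx_toPerm hc, Golay.idx_toPerm hd]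
  exact beq_iff_eq.1 (List.all_eq_true.1 h _ (List.mem_range.2 (Golay.idx_lt p)))

/-- The groups of the sequence. -/
noncomputable def sSub (k : ℕ) : Subgroup (Equiv.Perm GolayPt) :=
  Subgroup.closure {x | ∃ j < k, Golay.toPerm (gen j) = x}

theorem sSub_spec : ∀ k ≤ 10,
    (∀ d ∈ elts k, Golay.validPerm d = true) ∧
      (∀ x, x ∈ sSub k ↔ ∃ d ∈ elts k, Golay.toPerm d = x) ∧ Nat.card (sSub k) = 2 ^ k := by
  intro k
  induction k with
  | zero =>
    intro _
    have h0 : sSub 0 = ⊥ := by
      rw [sSub, Subgroup.closure_eq_bot_iff]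
      rintro x ⟨j, hj, -⟩
      omega
    refine ⟨fun d hd => ?_, fun x => ?_, by rw [h0, Subgroup.card_bot]; rfl⟩
    · rw [elts, List.mem_singleton] at hd; rw [hd]; exact valid_idC
    · rw [h0, Subgroup.mem_bot, elts]
      simp [toPerm_idC, eq_comm]
  | succ k ih =>
    intro hk
    obtain ⟨hval, hmem, hcard⟩ := ih (by omega)
    have hst := steps_ok
    simp only [Bool.and_eq_true, List.all_eq_true, List.mem_range] at hst
    have hok := hst.1.1 k (by omega)
    simp only [stepOK, Bool.and_eq_true, List.all_eq_true, List.mem_range, decide_eq_true_eq,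
      List.any_eq_true, bne_iff_ne] at hok
    obtain ⟨⟨⟨⟨haut, hL⟩, hsl⟩, hsq⟩, hcj⟩ := hok
    set g := gen k with hg
    have hgv := Golay.validPerm_of_isAut haut
    set γ := Golay.toPerm g
    have hgen : ∀ j < k, Golay.validPerm (gen j) = true := by
      intro j hj
      have hh := hst.1.1 j (by omega)
      simp only [stepOK, Bool.and_eq_true] at hh
      exact Golay.validPerm_of_isAut hh.1.1.1.1
    have hsq' : γ * γ ∈ sSub k := by
      have hm : (elts k).getD (sqIdx.getD k 0) 0 ∈ elts k := by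
        rw [List.getD_eq_getElem _ _ hsl]; exact List.getElem_mem hsl
      rw [mul_of_eqC hgv hgv (hval _ hm) valid_idC hsq, toPerm_idC, mul_one]
      exact (hmem _).2 ⟨_, hm, rfl⟩
    have hnorm : ∀ h ∈ sSub k, γ * h * γ⁻¹ ∈ sSub k := by
      intro h hh
      suffices sSub k ≤ (sSub k).comap (MulAut.conj γ).toMonoidHom from this hh
      rw [sSub, Subgroup.closure_le]
      rintro _ ⟨j, hj, rfl⟩
      obtain ⟨hjl, hje⟩ := hcj j hj
      have hm : (elts k).getD ((cjIdx.getD k []).getD j 0) 0 ∈ elts k := by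
        rw [List.getD_eq_getElem _ _ hjl]; exact List.getElem_mem hjl
      show γ * Golay.toPerm (gen j) * γ⁻¹ ∈ sSub k
      rw [mul_of_eqC hgv (hgen j hj) (hval _ hm) hgv hje, mul_inv_cancel_right]
      exact (hmem _).2 ⟨_, hm, rfl⟩
    have hnot : γ ∉ sSub k := by
      intro h
      obtain ⟨d, hd, he⟩ := (hmem _).1 h
      obtain ⟨i, hi, hne⟩ := (hL d hd).2
      refine hne ?_
      have := congrArg (fun σ : Equiv.Perm GolayPt => Golay.idx (σ (Golay.pt i))) he
      simp only [γ, Golay.idx_toPerm (hval d hd), Golay.idx_toPerm hgv, Golay.idx_pt hi] at this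
      exact this
    let H : Subgroup (Equiv.Perm GolayPt) :=
      { carrier := {x | x ∈ sSub k ∨ x * γ⁻¹ ∈ sSub k}
        one_mem' := Or.inl (one_mem _)
        mul_mem' := by
          rintro x y (hx | hx) (hy | hy)
          · exact Or.inl (mul_mem hx hy)
          · exact Or.inr (by rw [mul_assoc]; exact mul_mem hx hy)
          · refine Or.inr ?_
            rw [show x * y * γ⁻¹ = x * γ⁻¹ * (γ * y * γ⁻¹) by group]
            exact mul_mem hx (hnorm y hy)
          · refine Or.inl ?_
            rw [show x * y = x * γ⁻¹ * (γ * (y * γ⁻¹) * γ⁻¹) * (γ * γ) by group]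
            exact mul_mem (mul_mem hx (hnorm _ hy)) hsq'
        inv_mem' := by
          rintro x (hx | hx)
          · exact Or.inl (inv_mem hx)
          · refine Or.inr ?_
            rw [show x⁻¹ * γ⁻¹ = (γ * γ)⁻¹ * (γ * (x * γ⁻¹)⁻¹ * γ⁻¹) by group]
            exact mul_mem (inv_mem hsq') (hnorm _ (inv_mem hx)) }
    have hmono : sSub k ≤ sSub (k + 1) :=
      Subgroup.closure_mono fun x ⟨j, hj, he⟩ => ⟨j, by omega, he⟩
    have hγ1 : γ ∈ sSub (k + 1) := Subgroup.subset_closure ⟨k, by omega, rfl⟩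
    have hH : sSub (k + 1) = H := by
      refine le_antisymm ((Subgroup.closure_le _).2 ?_) ?_
      · rintro _ ⟨j, hj, rfl⟩
        rcases Nat.lt_succ_iff_lt_or_eq.1 hj with h | rfl
        · exact Or.inl (Subgroup.subset_closure ⟨j, h, rfl⟩)
        · exact Or.inr (by rw [mul_inv_cancel]; exact one_mem _)
      · rintro x (hx | hx)
        · exact hmono hx
        · simpa using mul_mem (hmono hx) hγ1
    have hmul : ∀ d ∈ elts k, Golay.toPerm (compC d g) = Golay.toPerm d * γ := by
      intro d hd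
      have hh := hL d hd
      have := mul_of_eqC hh.1.1.2 valid_idC (hval d hd) hgv hh.1.2
      rwa [toPerm_idC, mul_one] at this
    refine ⟨fun d hd => ?_, fun x => ?_, ?_⟩
    · rw [elts, List.mem_append, List.mem_map] at hd
      rcases hd with h | ⟨e, he, rfl⟩
      · exact hval d h
      · exact (hL e he).1.1.2
    · rw [hH]
      simp only [elts, List.mem_append, List.mem_map, or_and_right, exists_or]
      show x ∈ sSub k ∨ x * γ⁻¹ ∈ sSub k ↔ _
      refine or_congr (hmem x) ((hmem _).trans ⟨?_, ?_⟩)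
      · rintro ⟨d, hd, he⟩
        exact ⟨_, ⟨d, hd, rfl⟩, by rw [hmul d hd, he, inv_mul_cancel_right]⟩
      · rintro ⟨_, ⟨d, hd, rfl⟩, he⟩
        exact ⟨d, hd, by rw [← he, hmul d hd, mul_inv_cancel_right]⟩
    · rw [pow_succ, ← hcard, hH, ← Nat.card_eq_two_iff.2 ⟨false, true, by simp, by ext b; cases b <;> simp⟩,
        ← Nat.card_prod]
      refine (Nat.card_congr (Equiv.ofBijective (fun p : sSub k × Bool =>
        (⟨if p.2 then (p.1 : Equiv.Perm GolayPt) * γ else p.1, by
          cases p.2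
          · exact Or.inl p.1.2
          · exact Or.inr (by simp)⟩ : H)) ⟨?_, ?_⟩)).symm
      · rintro ⟨a, b⟩ ⟨a', b'⟩ h
        have h := congrArg Subtype.val h
        cases b <;> cases b' <;> simp at h ⊢
        · exact h
        · exact hnot (by rw [show γ = (a' : Equiv.Perm GolayPt)⁻¹ * a by rw [h]; group]
                         exact mul_mem (inv_mem a'.2) a.2)
        · exact hnot (by rw [show γ = (a : Equiv.Perm GolayPt)⁻¹ * a' by rw [← h]; group]
                         exact mul_mem (inv_mem a.2) a'.2)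
        · exact h
      · rintro ⟨x, hx | hx⟩
        · exact ⟨⟨⟨x, hx⟩, false⟩, rfl⟩
        · exact ⟨⟨⟨_, hx⟩, true⟩, Subtype.ext (by simp)⟩

/-- The Sylow 2-subgroup of the permutation group. -/
noncomputable def sPerm : Subgroup (Equiv.Perm GolayPt) := sSub 10

theorem sPerm_le : sPerm ≤ M24 := by
  rw [sPerm, sSub, Subgroup.closure_le]
  rintro _ ⟨j, hj, rfl⟩
  have h := steps_ok
  simp only [Bool.and_eq_true, List.all_eq_true, List.mem_range] at h
  have hh := h.1.1 j hj
  simp only [stepOK, Bool.and_eq_true] at hh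
  exact Golay.toPerm_mem_M24 hh.1.1.1.1

/-- The monomial elements over `sPerm`. -/
def sylGrp : Subgroup Co0 where
  carrier := {x | ∃ σ ∈ sPerm, ∃ c ∈ Code, mo σ c = x}
  one_mem' := ⟨1, one_mem _, ∅, Golay.empty_mem, mo_one_empty⟩
  mul_mem' := by
    rintro _ _ ⟨σ, hσ, c, hc, rfl⟩ ⟨τ, hτ, e, he, rfl⟩
    exact ⟨_, mul_mem hσ hτ, _,
      Golay.symmDiff_mem hc (Golay.smul_mem_supports (sPerm_le hσ) he),
      (mo_mul (sPerm_le hσ) (sPerm_le hτ) hc he).symm⟩
  inv_mem' := by
    rintro _ ⟨σ, hσ, c, hc, rfl⟩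
    have h1 := inv_mem (sPerm_le hσ)
    refine ⟨σ⁻¹, inv_mem hσ, σ⁻¹ • c, Golay.smul_mem_supports h1 hc, eq_inv_of_mul_eq_one_left ?_⟩
    rw [mo_mul h1 (sPerm_le hσ) (Golay.smul_mem_supports h1 hc) hc, inv_mul_cancel, symmDiff_self,
      Finset.bot_eq_empty, mo_one_empty]

theorem natCard_code : Nat.card Code = 4096 := by
  rw [← Nat.card_range_of_injective (f := fun x : Fin 4096 => Golay.pts (Golay.enc x.1))
    (fun x y h => Fin.ext (Golay.enc_injOn x.2 y.2 (Golay.pts_injOn (Golay.enc_lt _) (Golay.enc_lt _) h)))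
    |>.trans (Nat.card_fin _)]
  congr 2
  ext s
  exact ⟨fun h => by
      obtain ⟨x, hx, he⟩ := Golay.mem_supports_iff_exists.1 h
      exact ⟨⟨x, hx⟩, he⟩,
    fun ⟨x, he⟩ => Golay.mem_supports_iff_exists.2 ⟨x.1, x.2, he⟩⟩

theorem natCard_sylGrp : Nat.card sylGrp = 2 ^ 22 := by
  have hS : Nat.card sPerm = 2 ^ 10 := (sSub_spec 10 le_rfl).2.2
  rw [show (2 : ℕ) ^ 22 = 2 ^ 10 * 4096 by norm_num, ← hS, ← natCard_code, ← Nat.card_prod]
  refine (Nat.card_congr (Equiv.ofBijective (fun p : sPerm × Code =>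
    (⟨mo p.1.1 p.2.1, p.1.1, p.1.2, p.2.1, p.2.2, rfl⟩ : sylGrp)) ⟨?_, ?_⟩)).symm
  · intro p q h
    obtain ⟨h1, h2⟩ := mo_injective (sPerm_le p.1.2) (sPerm_le q.1.2) p.2.2 q.2.2
      (congrArg Subtype.val h)
    exact Prod.ext (Subtype.ext h1) (Subtype.ext h2)
  · rintro ⟨x, σ, hσ, c, hc, rfl⟩
    exact ⟨⟨⟨σ, hσ⟩, ⟨c, hc⟩⟩, rfl⟩

/-- The Sylow 2-subgroup. -/
noncomputable def sylP : Sylow 2 Co0 :=
  haveI : Fact (Nat.Prime 2) := ⟨Nat.prime_two⟩
  IsPGroup.toSylow (IsPGroup.of_card natCard_sylGrp) (by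
    have h := Subgroup.card_mul_index sylGrp
    rw [natCard_sylGrp, card_co0] at h
    omega)

theorem coe_sylP : (sylP : Subgroup Co0) = sylGrp := rfl

theorem sgn_mem {c : Finset GolayPt} (hc : c ∈ Code) : sgn c ∈ sylGrp :=
  ⟨1, one_mem _, c, hc, rfl⟩

/-- The octad fixed by `sPerm`. -/
def octA : Finset GolayPt := Golay.pts Golay.octad0

theorem octA_mem : octA ∈ Code := (Golay.octad0_mem).1

theorem sgn_univ : sgn Finset.univ = negOne := by
  refine co0_ext fun v => Subtype.ext (funext fun i => ?_)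
  rw [sgn_smul Golay.univ_mem, if_pos (Finset.mem_univ i), negOne_smul]
  rfl

/-- The tests for a central element. -/
def cenOK (m : ℕ) : Bool :=
  ((List.range 10).any fun j => Golay.imgMask (gen j) m != m) ||
    [0, Golay.octad0, Golay.octad0 ^^^ 16777215, 16777215].contains m

theorem cen_check : (Golay.allSpan cenOK Golay.rows 0 &&
    ((elts 10).all fun d => (List.range 24).all (fun i => Golay.fn d i == i) ||
      Golay.rows.any fun r => Golay.imgMask d r != r)) = true := by
  decide +kernel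

theorem center_syl {x : Co0} (hx : x ∈ sylGrp) (h : ∀ y ∈ sylGrp, y * x = x * y) :
    x = 1 ∨ x = negOne ∨ x = sgn octA ∨ x = sgn octAᶜ := by
  obtain ⟨σ, hσ, c, hc, rfl⟩ := hx
  have hc' := cen_check
  rw [Bool.and_eq_true] at hc'
  obtain ⟨hcode, hfaith⟩ := hc'
  have hσM := sPerm_le hσ
  have hrow : ∀ e ∈ Code, σ • e = e := by
    intro e he
    have := h _ (sgn_mem he)
    rw [sgn, mo_mul (one_mem _) hσM he hc, mo_mul hσM (one_mem _) hc he, one_mul, mul_one,
      one_smul] at this
    obtain ⟨-, h2⟩ := mo_injective hσM hσM (Golay.symmDiff_mem he hc)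
      (Golay.symmDiff_mem hc (Golay.smul_mem_supports hσM he)) this
    rw [symmDiff_comm e c] at h2
    exact (symmDiff_right_injective c h2).symm
  obtain ⟨hval, hmem, -⟩ := sSub_spec 10 le_rfl
  obtain ⟨d, hd, rfl⟩ := (hmem σ).1 hσ
  have hd1 : Golay.toPerm d = 1 := by
    have h2 := List.all_eq_true.1 hfaith d hd
    simp only [Bool.or_eq_true, List.all_eq_true, List.mem_range, beq_iff_eq, List.any_eq_true,
      bne_iff_ne] at h2
    rcases h2 with h2 | ⟨r, hr, hne⟩
    · refine Equiv.ext fun p => Golay.idx_injective ?_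
      rw [Golay.idx_toPerm (hval d hd), h2 _ (Golay.idx_lt p)]; rfl
    · refine absurd (Golay.pts_injOn (Golay.imgMask_lt (hval d hd) _) (Golay.rows_lt r hr) ?_) hne
      rw [Golay.pts_imgMask (hval d hd)]
      exact hrow _ ((Golay.rows_octads r hr).1)
  rw [hd1]
  have hm := Golay.supports_forall hcode hc
  simp only [cenOK, Bool.or_eq_true, List.any_eq_true, List.mem_range, bne_iff_ne,
    List.contains_iff_mem, List.mem_cons, List.not_mem_nil, or_false] at hm
  rcases hm with ⟨j, hj, hne⟩ | hm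
  · exfalso
    have hst := steps_ok
    simp only [Bool.and_eq_true, List.all_eq_true, List.mem_range] at hst
    have hh := hst.1.1 j hj
    simp only [stepOK, Bool.and_eq_true] at hh
    have hv := Golay.validPerm_of_isAut hh.1.1.1.1
    have hγ : Golay.toPerm (gen j) ∈ sPerm := Subgroup.subset_closure ⟨j, hj, rfl⟩
    have := h _ ⟨_, hγ, ∅, Golay.empty_mem, rfl⟩
    rw [mo_mul (sPerm_le hγ) hσM Golay.empty_mem hc, mo_mul hσM (sPerm_le hγ) hc Golay.empty_mem,
      Finset.smul_finset_empty, hd1, mul_one, one_mul, ← Finset.bot_eq_empty, symmDiff_bot,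
      bot_symmDiff] at this
    obtain ⟨-, h2⟩ := mo_injective (sPerm_le hγ) (sPerm_le hγ)
      (Golay.smul_mem_supports (sPerm_le hγ) hc) hc this
    refine hne (Golay.pts_injOn (Golay.imgMask_lt hv _) (Golay.maskOf_lt c) ?_)
    rw [Golay.pts_imgMask hv, Golay.pts_maskOf, h2]
  · have e : c = Golay.pts (Golay.maskOf c) := (Golay.pts_maskOf c).symm
    rcases hm with hm | hm | hm | hm <;> rw [hm] at e <;> subst e
    · exact Or.inl (by rw [Golay.pts_zero, mo_one_empty])
    · exact Or.inr (Or.inr (Or.inl rfl))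
    · refine Or.inr (Or.inr (Or.inr ?_))
      rw [Golay.pts_xor, Golay.pts_full, ← Finset.top_eq_univ, symmDiff_top]
      rfl
    · exact Or.inr (Or.inl (by rw [Golay.pts_full]; exact sgn_univ))

/-- The span of a list of masks with the common size of the fibres of the combinations. -/
def spanInfo : List ℕ → List ℕ × ℕ
  | [] => ([0], 1)
  | g :: gs =>
    let r := spanInfo gs
    bif r.1.contains g then (r.1, 2 * r.2) else (r.1 ++ r.1.map (· ^^^ g), r.2)

theorem spanInfo_spec : ∀ gs : List ℕ,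
    (∀ a ∈ (spanInfo gs).1, ∀ b ∈ (spanInfo gs).1, a ^^^ b ∈ (spanInfo gs).1) ∧
      ∀ t acc : ℕ, Golay.countSpan (· == t) gs acc =
        if t ^^^ acc ∈ (spanInfo gs).1 then (spanInfo gs).2 else 0
  | [] => by
    refine ⟨by simp [spanInfo], fun t acc => ?_⟩
    by_cases h : acc = t
    · subst h; simp [Golay.countSpan, spanInfo]
    · have hne : t ^^^ acc ≠ 0 := fun e => h (Nat.xor_eq_zero_iff.1 e).symm
      simp [Golay.countSpan, spanInfo, hne, beq_eq_false_iff_ne.2 h]
  | g :: gs => by
    obtain ⟨hcl, hct⟩ := spanInfo_spec gs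
    have hx : ∀ u, u ∈ (spanInfo gs).1 → u ^^^ g ∈ (spanInfo gs).1 → g ∈ (spanInfo gs).1 := by
      intro u hu hug
      have := hcl u hu _ hug
      rwa [← Nat.xor_assoc, Nat.xor_self, Nat.zero_xor] at this
    have hstep : ∀ t acc : ℕ, t ^^^ (acc ^^^ g) = (t ^^^ acc) ^^^ g := fun t acc =>
      (Nat.xor_assoc _ _ _).symm
    by_cases hg : g ∈ (spanInfo gs).1
    · have he : spanInfo (g :: gs) = ((spanInfo gs).1, 2 * (spanInfo gs).2) := by
        simp [spanInfo, hg]
      refine ⟨by rw [he]; exact hcl, fun t acc => ?_⟩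
      rw [he, Golay.countSpan, hct, hct, hstep]
      by_cases hu : t ^^^ acc ∈ (spanInfo gs).1
      · rw [if_pos hu, if_pos (hcl _ hu _ hg), if_pos hu]; ring
      · rw [if_neg hu, if_neg hu, if_neg]
        intro h
        have h2 := hcl _ h _ hg
        rw [Nat.xor_assoc, Nat.xor_self, Nat.xor_zero] at h2
        exact hu h2
    · have he : spanInfo (g :: gs) =
          ((spanInfo gs).1 ++ (spanInfo gs).1.map (· ^^^ g), (spanInfo gs).2) := by
        simp [spanInfo, hg]
      have hm : ∀ u, u ∈ (spanInfo gs).1.map (· ^^^ g) ↔ u ^^^ g ∈ (spanInfo gs).1 := by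
        intro u
        rw [List.mem_map]
        exact ⟨fun ⟨a, ha, e⟩ => by rw [← e, Nat.xor_assoc, Nat.xor_self, Nat.xor_zero]; exact ha,
          fun h => ⟨_, h, by rw [Nat.xor_assoc, Nat.xor_self, Nat.xor_zero]⟩⟩
      refine ⟨?_, fun t acc => ?_⟩
      · rw [he]
        intro a ha b hb
        simp only [List.mem_append, hm] at ha hb ⊢
        rcases ha with ha | ha <;> rcases hb with hb | hb
        · exact Or.inl (hcl a ha b hb)
        · exact Or.inr (by rw [Nat.xor_assoc]; exact hcl a ha _ hb)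
        · refine Or.inr ?_
          rw [show a ^^^ b ^^^ g = (a ^^^ g) ^^^ b by
            rw [Nat.xor_assoc, Nat.xor_comm b g, ← Nat.xor_assoc]]
          exact hcl _ ha b hb
        · refine Or.inl ?_
          rw [show a ^^^ b = (a ^^^ g) ^^^ (b ^^^ g) by
            rw [Nat.xor_assoc a g, Nat.xor_comm b g, ← Nat.xor_assoc g g b, Nat.xor_self, Nat.zero_xor]]
          exact hcl _ ha _ hb
      · rw [he, Golay.countSpan, hct, hct, hstep]
        simp only [List.mem_append, hm]
        by_cases hu : t ^^^ acc ∈ (spanInfo gs).1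
        · rw [if_pos hu, if_neg (fun h => hg (hx _ hu h)), if_pos (Or.inl hu), Nat.add_zero]
        · rw [if_neg hu, Nat.zero_add]
          simp [hu]

/-- Square roots of the sign change coded by `t` over one permutation. -/
def rootsOver (t d : ℕ) : ℕ :=
  bif (List.range 24).all (fun i => Golay.fn d (Golay.fn d i) == i) then
    let r := spanInfo (Golay.rows.map fun r => r ^^^ Golay.imgMask d r)
    bif r.1.contains t then r.2 else 0
  else 0

/-- The number of square roots. -/
def rootCount (t : ℕ) : ℕ := ((elts 10).map (rootsOver t)).sum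

theorem root_counts : rootCount 16777215 = 6528 ∧ rootCount Golay.octad0 = 15232 ∧
    rootCount (Golay.octad0 ^^^ 16777215) = 10368 := by
  decide +kernel

theorem imgMask_xor {d : ℕ} (hd : Golay.validPerm d = true) (a b : ℕ) :
    Golay.imgMask d (a ^^^ b) = Golay.imgMask d a ^^^ Golay.imgMask d b := by
  refine Golay.pts_injOn (Golay.imgMask_lt hd _)
    (Nat.xor_lt_two_pow (Golay.imgMask_lt hd _) (Golay.imgMask_lt hd _)) ?_
  rw [Golay.pts_xor, Golay.pts_imgMask hd, Golay.pts_imgMask hd, Golay.pts_imgMask hd,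
    Golay.pts_xor, Golay.smul_symmDiff]

theorem imgMask_zero {d : ℕ} (hd : Golay.validPerm d = true) : Golay.imgMask d 0 = 0 :=
  Golay.pts_injOn (Golay.imgMask_lt hd _) (by norm_num)
    (by rw [Golay.pts_imgMask hd, Golay.pts_zero, Finset.smul_finset_empty])

theorem encAux_twist {d : ℕ} (hd : Golay.validPerm d = true) : ∀ (gs : List ℕ) (x : ℕ),
    Golay.encAux (gs.map fun r => r ^^^ Golay.imgMask d r) x =
      Golay.encAux gs x ^^^ Golay.imgMask d (Golay.encAux gs x)
  | [], x => by simp [Golay.encAux, imgMask_zero hd]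
  | g :: gs, x => by
    simp only [List.map_cons, Golay.encAux, encAux_twist hd gs, imgMask_xor hd]
    split
    · simp [Nat.xor_assoc, Nat.xor_comm, Nat.xor_left_comm]
    · simp [imgMask_zero hd]

theorem elts_nodup : (elts 10).Nodup ∧
    ∀ d ∈ elts 10, ∀ e ∈ elts 10, Golay.toPerm d = Golay.toPerm e → d = e := by
  classical
  obtain ⟨-, hmem, hcard⟩ := sSub_spec 10 le_rfl
  have hlen : ∀ k, (elts k).length = 2 ^ k := by
    intro k
    induction k with
    | zero => rfl
    | succ k ih => rw [elts, List.length_append, List.length_map, ih, pow_succ]; omega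
  have hset : ((elts 10).toFinset.image Golay.toPerm).card = 2 ^ 10 := by
    rw [← hcard, ← Nat.card_coe_set_eq _ |>.trans (Set.ncard_coe_finset _)]
    congr 2
    ext x
    simp only [Finset.coe_image, Set.mem_image, Finset.mem_coe, List.mem_toFinset, SetLike.mem_coe]
    exact (hmem x).symm
  have h1 : ((elts 10).toFinset.image Golay.toPerm).card ≤ (elts 10).toFinset.card :=
    Finset.card_image_le
  have h2 := (elts 10).toFinset_card_le
  have h3 := hlen 10
  refine ⟨List.dedup_eq_self.1 ((List.dedup_sublist _).eq_of_length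
      (by rw [← List.card_toFinset]; omega)), fun d hd e he h => ?_⟩
  exact Finset.card_image_iff.1 (by omega) (List.mem_toFinset.2 hd) (List.mem_toFinset.2 he) h

theorem natCard_roots {t : ℕ} (ht : Golay.isCode t = true) :
    Nat.card {y : sylGrp // (y : Co0) * (y : Co0) = sgn (Golay.pts t)} = rootCount t := by
  classical
  obtain ⟨hnd, hinj⟩ := elts_nodup
  obtain ⟨hval, hmem, -⟩ := sSub_spec 10 le_rfl
  obtain ⟨L, hL⟩ : ∃ L, elts 10 = L := ⟨_, rfl⟩
  obtain ⟨N, hN⟩ : ∃ N, (4096 : ℕ) = N := ⟨_, rfl⟩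
  rw [hL] at hnd hinj hval hmem
  set F := (L.toFinset ×ˢ Finset.range N).filter fun p =>
    ((List.range 24).all fun i => Golay.fn p.1 (Golay.fn p.1 i) == i) = true ∧
      Golay.enc p.2 ^^^ Golay.imgMask p.1 (Golay.enc p.2) = t with hF
  have hsum : F.card = rootCount t := by
    rw [rootCount, hL, ← List.sum_toFinset _ hnd, hF, Finset.card_filter, Finset.sum_product]
    refine Finset.sum_congr rfl fun d hd => ?_
    rw [rootsOver]
    cases hb : (List.range 24).all fun i => Golay.fn d (Golay.fn d i) == i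
    · exact Finset.sum_eq_zero fun x _ => by simp only [hb, Bool.false_eq_true, false_and, if_false]
    · have hc := (spanInfo_spec (Golay.rows.map fun r => r ^^^ Golay.imgMask d r)).2 t 0
      rw [Nat.xor_zero] at hc
      simp only [cond_true, List.contains_eq_mem, Bool.cond_decide]
      rw [← hc, Golay.countSpan_eq, List.length_map, Finset.card_filter,
        show Golay.rows.length = 12 from rfl, show (2 : ℕ) ^ 12 = N by rw [← hN]; norm_num]
      refine Finset.sum_congr rfl fun x _ => ?_
      simp only [hb, true_and, encAux_twist (hval d (List.mem_toFinset.1 hd)), Golay.enc, Nat.zero_xor,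
        beq_iff_eq]
  rw [← hsum, ← Nat.card_eq_finsetCard]
  have hsq : ∀ d ∈ L, (((List.range 24).all fun i => Golay.fn d (Golay.fn d i) == i) = true ↔
      Golay.toPerm d * Golay.toPerm d = 1) := by
    intro d hd
    have hv := hval d hd
    simp only [List.all_eq_true, List.mem_range, beq_iff_eq]
    refine ⟨fun h => Equiv.ext fun p => Golay.idx_injective ?_, fun h i hi => ?_⟩
    · rw [Equiv.Perm.mul_apply, Golay.idx_toPerm hv, Golay.idx_toPerm hv, h _ (Golay.idx_lt p)]; rfl
    · have := congrArg (fun σ : Equiv.Perm GolayPt => Golay.idx (σ (Golay.pt i))) h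
      simpa [Golay.idx_toPerm hv, Golay.idx_pt hi] using this
  have key : ∀ d ∈ L, ∀ x < N,
      (mo (Golay.toPerm d) (Golay.pts (Golay.enc x)) * mo (Golay.toPerm d) (Golay.pts (Golay.enc x)) =
          sgn (Golay.pts t) ↔
        ((List.range 24).all fun i => Golay.fn d (Golay.fn d i) == i) = true ∧
          Golay.enc x ^^^ Golay.imgMask d (Golay.enc x) = t) := by
    intro d hd x _
    have hv := hval d hd
    have hM : Golay.toPerm d ∈ M24 := sPerm_le ((hmem _).2 ⟨d, hd, rfl⟩)
    have hc := code_enc x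
    rw [mo_mul hM hM hc hc, sgn, hsq d hd, ← Golay.pts_imgMask hv, ← Golay.pts_xor]
    refine ⟨fun h => ?_, fun ⟨h1, h2⟩ => by rw [h1, h2]⟩
    obtain ⟨h1, h2⟩ := mo_injective (mul_mem hM hM) (one_mem _)
      (by rw [Golay.pts_xor, Golay.pts_imgMask hv]
          exact Golay.symmDiff_mem hc (Golay.smul_mem_supports hM hc)) (code_pts ht) h
    exact ⟨h1, Golay.pts_injOn (Nat.xor_lt_two_pow (Golay.enc_lt x) (Golay.imgMask_lt hv _))
      (Golay.lt_of_isCode ht) h2⟩
  refine (Nat.card_congr (Equiv.ofBijective (fun p : F =>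
    (⟨⟨mo (Golay.toPerm p.1.1) (Golay.pts (Golay.enc p.1.2)), _, (hmem _).2
      ⟨p.1.1, List.mem_toFinset.1 (Finset.mem_product.1 (Finset.mem_filter.1 p.2).1).1, rfl⟩, _,
        code_enc _, rfl⟩, ?_⟩ : {y : sylGrp // (y : Co0) * (y : Co0) = sgn (Golay.pts t)}))
      ⟨?_, ?_⟩)).symm
  · obtain ⟨hp, hc⟩ := Finset.mem_filter.1 p.2
    rw [Finset.mem_product, List.mem_toFinset, Finset.mem_range] at hp
    exact (key _ hp.1 _ hp.2).2 hc
  · rintro ⟨⟨d, x⟩, hp⟩ ⟨⟨e, y⟩, hq⟩ h
    have hp' := (Finset.mem_filter.1 hp).1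
    have hq' := (Finset.mem_filter.1 hq).1
    rw [Finset.mem_product, List.mem_toFinset, Finset.mem_range] at hp' hq'
    obtain ⟨h1, h2⟩ := mo_injective (sPerm_le ((hmem _).2 ⟨d, hp'.1, rfl⟩))
      (sPerm_le ((hmem _).2 ⟨e, hq'.1, rfl⟩)) (code_enc x) (code_enc y)
      (congrArg (fun z => (z.1 : Co0)) h)
    exact Subtype.ext (Prod.ext (hinj d hp'.1 e hq'.1 h1)
      (Golay.enc_injOn (hN ▸ hp'.2) (hN ▸ hq'.2) (Golay.pts_injOn (Golay.enc_lt x) (Golay.enc_lt y) h2)))
  · rintro ⟨⟨z, σ, hσ, c, hc, rfl⟩, hz⟩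
    obtain ⟨d, hd, rfl⟩ := (hmem σ).1 hσ
    obtain ⟨x, hx, rfl⟩ := Golay.mem_supports_iff_exists.1 hc
    rw [hN] at hx
    exact ⟨⟨(d, x), Finset.mem_filter.2 ⟨Finset.mem_product.2
      ⟨List.mem_toFinset.2 hd, Finset.mem_range.2 hx⟩, (key d hd x hx).1 hz⟩⟩, rfl⟩

theorem negOne_mem_syl : negOne ∈ sylGrp := sgn_univ ▸ sgn_mem Golay.univ_mem

/-- Every automorphism of the Sylow subgroup fixes the central involution. -/
theorem aut_fix (α : MulAut sylGrp) :
    α ⟨negOne, negOne_mem_syl⟩ = ⟨negOne, negOne_mem_syl⟩ := by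
  set z : sylGrp := ⟨negOne, negOne_mem_syl⟩
  have hz1 : α z ≠ 1 := fun h => negOne_ne_one (congrArg Subtype.val
    (show z = 1 from α.injective (h.trans (map_one α).symm)))
  have hcomm : ∀ y ∈ sylGrp, y * (α z : Co0) = (α z : Co0) * y := by
    intro y hy
    have e : α.symm ⟨y, hy⟩ * z = z * α.symm ⟨y, hy⟩ :=
      Subtype.ext (Subgroup.mem_center_iff.1 negOne_mem_center _)
    have := congrArg α e
    rw [map_mul, map_mul, MulEquiv.apply_symm_apply] at this
    exact congrArg Subtype.val this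
  have hroots : ∀ w : sylGrp, Nat.card {y : sylGrp // y * y = α w} = Nat.card {y : sylGrp // y * y = w} :=
    fun w => (Nat.card_congr (α.toEquiv.subtypeEquiv fun y => by
      simp only [MulEquiv.toEquiv_eq_coe, MulEquiv.coe_toEquiv]
      rw [← map_mul, α.injective.eq_iff])).symm
  have hcoe : ∀ w : sylGrp, Nat.card {y : sylGrp // y * y = w} =
      Nat.card {y : sylGrp // (y : Co0) * (y : Co0) = (w : Co0)} := fun w =>
    Nat.card_congr (Equiv.subtypeEquivRight fun y => Subtype.ext_iff)
  obtain ⟨c1, c2, c3⟩ := root_counts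
  have hz := hroots z
  rw [hcoe, hcoe, show (z : Co0) = sgn (Golay.pts 16777215) by rw [Golay.pts_full, sgn_univ],
    natCard_roots (by decide +kernel), c1] at hz
  rcases center_syl (α z).2 hcomm with h | h | h | h
  · exact absurd (Subtype.ext h) hz1
  · exact Subtype.ext h
  · rw [h, show octA = Golay.pts Golay.octad0 from rfl, natCard_roots (by decide +kernel), c2] at hz
    omega
  · rw [h, show octAᶜ = Golay.pts (Golay.octad0 ^^^ 16777215) by
      rw [Golay.pts_xor, Golay.pts_full, ← Finset.top_eq_univ, symmDiff_top]; rfl,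
      natCard_roots (by decide +kernel), c3] at hz
    omega

end Cfsg.Agent.Co0Standard
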